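import Groth.Prelude.Def_W4stkdualitygroupp2Univ
import Mathlib.RingTheory.Smooth.StandardSmoothCotangent
import Mathlib.RingTheory.Etale.Locus
import Mathlib.RingTheory.Unramified.LocalStructure
import Mathlib.RingTheory.Etale.QuasiFinite

/-!
# An étale point of the universal family of equations
-/

set_option autoImplicit false
set_option linter.all false

open MvPolynomial

noncomputable section

namespace SyntUnivLib

/-- The algebra cut out by as many equations as variables is étale where the jacobian is invertible. -/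
theorem formallyEtale_away {R : Type*} [CommRing R] {n : ℕ} (v : Fin n → MvPolynomial (Fin n) R) :
    Algebra.FormallyEtale R (Localization.Away
      (Ideal.Quotient.mk (Ideal.span (Set.range v)) (Matrix.of fun i j => pderiv i (v j)).det)) := by
  let B := MvPolynomial (Fin n) R ⧸ Ideal.span (Set.range v)
  let g : B := Ideal.Quotient.mk (Ideal.span (Set.range v)) (Matrix.of fun i j => pderiv i (v j)).det
  let P : Algebra.PreSubmersivePresentation R B (Fin n) (Fin n) :=
    Algebra.PreSubmersivePresentation.naive (v := v) id Function.injective_id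
  let L := Algebra.PreSubmersivePresentation.localizationAway (R := B) (Localization.Away g) g
  have hP : P.jacobian = g := by
    rw [Algebra.PreSubmersivePresentation.jacobian_eq_jacobiMatrix_det]
    have : P.jacobiMatrix = Matrix.of fun i j => pderiv i (v j) := Matrix.ext fun i j =>
      Algebra.PreSubmersivePresentation.jacobiMatrix_apply _ i j
    rw [this]
    rfl
  let S : Algebra.SubmersivePresentation R (Localization.Away g) (Unit ⊕ Fin n) (Unit ⊕ Fin n) :=
    { toPreSubmersivePresentation := L.comp P
      jacobian_isUnit := by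
        have hu : IsUnit (algebraMap B (Localization.Away g) g) := IsLocalization.Away.algebraMap_isUnit g
        rw [Algebra.PreSubmersivePresentation.comp_jacobian_eq_jacobian_smul_jacobian, Algebra.smul_def,
          IsUnit.mul_iff, hP, Algebra.PreSubmersivePresentation.localizationAway_jacobian]
        exact ⟨hu, hu⟩ }
  haveI : Algebra.IsStandardSmoothOfRelativeDimension 0 R (Localization.Away g) :=
    ⟨_, _, inferInstance, inferInstance, S, by simp [Algebra.Presentation.dimension]⟩
  exact inferInstanceAs (Algebra.FormallyEtale R (Localization.Away g))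

/-- Étale and quasi-finite at the primes avoiding the jacobian. -/
theorem isEtaleAt_and_quasiFiniteAt {R : Type*} [CommRing R] {n : ℕ} (v : Fin n → MvPolynomial (Fin n) R)
    (q : PrimeSpectrum (MvPolynomial (Fin n) R ⧸ Ideal.span (Set.range v)))
    (hq : Ideal.Quotient.mk (Ideal.span (Set.range v)) (Matrix.of fun i j => pderiv i (v j)).det ∉ q.asIdeal) :
    Algebra.QuasiFiniteAt R q.asIdeal ∧ Algebra.IsEtaleAt R q.asIdeal := by
  have he : Algebra.IsEtaleAt R q.asIdeal :=
    (Algebra.basicOpen_subset_etaleLocus_iff.2 (formallyEtale_away v)) hq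
  haveI := he
  haveI : Algebra.EssFiniteType R (Localization.AtPrime q.asIdeal) :=
    Algebra.EssFiniteType.comp R (MvPolynomial (Fin n) R ⧸ Ideal.span (Set.range v)) _
  exact ⟨inferInstanceAs (Algebra.QuasiFinite R (Localization.AtPrime q.asIdeal)), he⟩

/-- The exponents of the linear specialisation. -/
def coeffAt (n d : ℕ) (p : Fin n × Synt.UnivIdx n d) : ℚ :=
  if p.2.exponent = Finsupp.single p.1 1 then 1 else 0

theorem exists_point (n d : ℕ) (hd : 1 ≤ d) :
    ∃ φ : MvPolynomial (Fin n) (Synt.UnivBase n d) →+* ℚ, (∀ i, φ (Synt.univPoly n d i) = 0) ∧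
      ∀ i j, φ (pderiv i (Synt.univPoly n d j)) = if i = j then 1 else 0 := by
  classical
  let α : Synt.UnivBase n d →+* ℚ := eval₂Hom (Int.castRingHom ℚ) (coeffAt n d)
  let φ : MvPolynomial (Fin n) (Synt.UnivBase n d) →+* ℚ := eval₂Hom α 0
  have hmon : ∀ (s : Fin n →₀ ℕ) (a : Synt.UnivBase n d), φ (monomial s a) = if s = 0 then α a else 0 :=
    fun s a => by
      show eval₂Hom α 0 (monomial s a) = _
      rw [eval₂Hom_zero_apply, constantCoeff_eq, coeff_monomial]
      split_ifs <;> simp
  have hX : ∀ p, α (X p) = coeffAt n d p := fun p => eval₂_X _ _ p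
  have hexp : Function.Injective (Synt.UnivIdx.exponent (n := n) (d := d)) := fun E E' h =>
    Subtype.ext (funext fun i => Fin.ext (DFunLike.congr_fun h i))
  refine ⟨φ, fun i => ?_, fun i j => ?_⟩
  · rw [Synt.univPoly, map_sum]
    refine Finset.sum_eq_zero fun E _ => ?_
    rw [hmon, hX]
    by_cases h : E.exponent = 0
    · rw [if_pos h, coeffAt, if_neg (by rw [h]; exact fun h' => by simpa using DFunLike.congr_fun h' i)]
    · rw [if_neg h]
  · let e₀ : Fin n → Fin (d + 1) := fun l => if l = j then ⟨1, by omega⟩ else 0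
    have hval : ∀ l, (e₀ l : ℕ) = if l = j then 1 else 0 := fun l => by
      simp only [e₀]
      split_ifs <;> simp
    let E₀ : Synt.UnivIdx n d := ⟨e₀, by simp [hval, hd]⟩
    have hE₀ : E₀.exponent = Finsupp.single j 1 := Finsupp.ext fun l => by
      show (e₀ l : ℕ) = _
      rw [hval, Finsupp.single_apply]
      exact if_congr eq_comm rfl rfl
    rw [Synt.univPoly, map_sum, map_sum, Finset.sum_eq_single E₀ (fun E _ hE => ?_) (by simp),
      pderiv_monomial, hmon, map_mul, hX, map_natCast, coeffAt, if_pos hE₀, hE₀]
    · by_cases h : i = j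
      · subst h
        simp
      · simp [Finsupp.single_apply, h, Ne.symm h]
    · have hc : coeffAt n d (j, E) = 0 := if_neg fun h => hE (hexp (h.trans hE₀.symm))
      rw [pderiv_monomial, hmon, map_mul, hX, hc, zero_mul, ite_self]

/-- An étale point of the universal family. -/
theorem exists_etale_point (n d : ℕ) (hd : 1 ≤ d) :
    ∃ q : PrimeSpectrum (Synt.UnivAlg n d),
      Algebra.QuasiFiniteAt (Synt.UnivBase n d) q.asIdeal ∧ Algebra.IsEtaleAt (Synt.UnivBase n d) q.asIdeal := by
  obtain ⟨φ, h0, h1⟩ := exists_point n d hd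
  let ψ : MvPolynomial (Fin n) (Synt.UnivBase n d) ⧸ Synt.univIdeal n d →+* ℚ := Ideal.Quotient.lift _ φ
    (fun a ha => by
      have : Synt.univIdeal n d ≤ RingHom.ker φ := Ideal.span_le.2 (by rintro _ ⟨i, rfl⟩; exact h0 i)
      exact this ha)
  haveI : (RingHom.ker ψ).IsPrime := RingHom.ker_isPrime ψ
  exact ⟨(⟨RingHom.ker ψ, inferInstance⟩ : PrimeSpectrum (MvPolynomial (Fin n) (Synt.UnivBase n d) ⧸ Synt.univIdeal n d)),
    isEtaleAt_and_quasiFiniteAt (Synt.univPoly n d) ⟨RingHom.ker ψ, inferInstance⟩ fun h => by
      have h' : φ ((Matrix.of fun i j => pderiv i (Synt.univPoly n d j)).det) = 0 := h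
      rw [RingHom.map_det, show φ.mapMatrix (Matrix.of fun i j => pderiv i (Synt.univPoly n d j)) = 1 from
        Matrix.ext fun i j => by simp [Matrix.one_apply, h1], Matrix.det_one] at h'
      exact one_ne_zero h'⟩

end SyntUnivLib
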